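import Groth.Agent.AbsApprox.ThickQA
import Groth.Agent.TMul.AmpleBasis
import Groth.Agent.TMul.Pullback
import Groth.Agent.PBundle.FrameTools
import Groth.Agent.SymAlg.BundleMap

/-!
Ampleness descends along a surjective closed immersion: lifting of powers of sections.
-/

set_option autoImplicit false
set_option linter.style.haveILetI false
set_option backward.isDefEq.respectTransparency false
set_option backward.isDefEq.respectTransparency.types false

universe u

open CategoryTheory CategoryTheory.Limits AlgebraicGeometry TopologicalSpace Opposite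
open Groth.Agent.QC (res resO res_res res_smul resO_resO app_res res_self resO_self)
open TMul (IsGen val homOf val_homOf res_val pw pw_smul res_pw isGen_pw genLocus_inf)

noncomputable section

namespace Groth.Agent.AmpleHomeo

variable {Z X : Scheme.{u}} (i : Z ⟶ X) [IsClosedImmersion i] {M : X.Modules}

/-- sections over an affine open lift along a closed immersion -/
theorem pullSect_surjective (hM : Coh.IsQCoh M) {W : X.Opens} (hW : IsAffineOpen W) :
    Function.Surjective (OmegaSh.pullSect i M W) := by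
  intro t
  let θ := (Scheme.Modules.pullbackPushforwardAdjunction i).unit.app M
  have hbc := RelTilde.isBC_unit i hM hW (hW.preimage i) le_rfl
  let r := RelTilde.resθ i θ (le_rfl : i ⁻¹ᵁ W ≤ i ⁻¹ᵁ W)
  let S : Submodule Γ(Z, i ⁻¹ᵁ W) Γ((Scheme.Modules.pullback i).obj M, i ⁻¹ᵁ W) := Submodule.span _ (Set.range r)
  obtain ⟨f, -, huniq⟩ := hbc (Γ((Scheme.Modules.pullback i).obj M, i ⁻¹ᵁ W) ⧸ S) 0
  have h1 : S.mkQ = f := huniq _ fun m =>
    (Submodule.Quotient.mk_eq_zero _).2 (Submodule.subset_span ⟨m, rfl⟩)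
  have h2 : (0 : _ →ₗ[Γ(Z, i ⁻¹ᵁ W)] _) = f := huniq _ fun m => rfl
  have ht : t ∈ S := (Submodule.Quotient.mk_eq_zero _).1 (LinearMap.congr_fun (h1.trans h2.symm) t)
  clear h1 h2 huniq f
  induction ht using Submodule.span_induction with
  | mem y hy =>
    obtain ⟨m, rfl⟩ := hy
    exact ⟨m, (res_self _ _ _).symm⟩
  | zero => exact ⟨0, map_zero (θ.app W).hom⟩
  | add y z _ _ hy hz =>
    obtain ⟨m, rfl⟩ := hy
    obtain ⟨m', rfl⟩ := hz
    exact ⟨m + m', map_add (θ.app W).hom m m'⟩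
  | smul c y _ hy =>
    obtain ⟨m, rfl⟩ := hy
    obtain ⟨d, rfl⟩ := i.app_surjective W hW c
    exact ⟨d • m, PBundle.pullSect_smul i M d m⟩

omit [IsClosedImmersion i] in
lemma isGen_pullSect (hM : PicF.IsInvertible M) {U : X.Opens} {e : Γ(M, U)} (he : IsGen e) :
    IsGen (OmegaSh.pullSect i M U e) :=
  SymAlg.isGen_pullθ i (Iso.refl _) (PicLoc.isInvertible_pullback i hM) (TMul.isQCoh_of_isInvertible hM) e he

omit [IsClosedImmersion i] in
lemma coeff_unique {U : X.Opens} {e : Γ(M, U)} (he : IsGen e) {V : X.Opens} (hV : V ≤ U) {c d : Γ(X, V)}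
    (h : c • res M hV e = d • res M hV e) : c = d :=
  (he V hV).1 h

variable [Surjective i] [CompactSpace X] [QuasiSeparatedSpace X]

/-- A power of a section on the closed subscheme with affine locus comes from the ambient scheme. -/
theorem exists_genLocus_eq (hM : PicF.IsInvertible M)
    (t : Coh.structureModule Z ⟶ (Scheme.Modules.pullback i).obj M) (W : X.Opens) (hW : IsAffineOpen W)
    (htW : i ⁻¹ᵁ W = CohB1.genLocus _ t) :
    ∃ (n : ℕ) (s : Coh.structureModule X ⟶ CohB1.tensorPow M (n + 1)), CohB1.genLocus _ s = W := by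
  classical
  obtain ⟨a, ha⟩ := pullSect_surjective i (TMul.isQCoh_of_isInvertible hM) hW (val t (i ⁻¹ᵁ W))
  obtain ⟨ι', hι', U, e, -, hU, hcov, he, -⟩ := TMul.exists_charts hM (0 : Coh.structureModule X ⟶ M)
  have key : ∀ k, ∃ α : Γ(X, U k ⊓ W), res M (inf_le_right : U k ⊓ W ≤ W) a = α • res M inf_le_left (e k) ∧
      ∃ N₀ : ℕ, ∀ N, N₀ ≤ N → ∃ b : Γ(X, U k), X.basicOpen b = U k ⊓ W ∧
        resO X (inf_le_left : U k ⊓ W ≤ U k) b = α ^ N := by
    intro k
    obtain ⟨α, hα⟩ := (he k (U k ⊓ W) inf_le_left).2 (res M inf_le_right a)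
    obtain ⟨τ, hτ⟩ := (isGen_pullSect i hM (he k) (i ⁻¹ᵁ U k) le_rfl).2 (val t (i ⁻¹ᵁ U k))
    simp only [res_self] at hτ
    obtain ⟨x, hx⟩ := i.app_surjective (U k) (hU k) τ
    have hτb : Z.basicOpen τ = i ⁻¹ᵁ (U k ⊓ W) :=
      (genLocus_inf t (isGen_pullSect i hM (he k)) hτ.symm).symm.trans
        (by rw [Scheme.Hom.preimage_inf, htW])
    have hxb : X.basicOpen x = U k ⊓ W := by
      refine AbsApprox.opens_eq_of_preimage_eq i ?_
      rw [Scheme.preimage_basicOpen, hx, hτb]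
    have haff : IsAffineOpen (U k ⊓ W) := hxb ▸ (hU k).basicOpen x
    have hle : i ⁻¹ᵁ (U k ⊓ W) ≤ i ⁻¹ᵁ U k := i.preimage_mono inf_le_left
    have hα' : i.app (U k ⊓ W) α = resO Z hle τ := by
      refine coeff_unique (isGen_pullSect i hM (he k)) hle ?_
      rw [← res_smul, hτ, res_val, ← PBundle.pullSect_res i M (inf_le_left : U k ⊓ W ≤ U k),
        ← PBundle.pullSect_smul, show α • res M inf_le_left (e k) = _ from hα,
        PBundle.pullSect_res, ha, res_val]
    have hnat : i.app (U k ⊓ W) (resO X (inf_le_left : U k ⊓ W ≤ U k) x) = resO Z hle τ := by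
      rw [← hx]
      exact ConcreteCategory.congr_hom (i.naturality (homOfLE (inf_le_left : U k ⊓ W ≤ U k)).op) x
    have hαb : X.basicOpen α = U k ⊓ W := by
      refine AbsApprox.opens_eq_of_preimage_eq i ?_
      rw [Scheme.preimage_basicOpen, hα']
      exact (Z.basicOpen_res τ (homOfLE hle).op).trans (by rw [hτb, inf_idem])
    let e' : Γ(X, U k ⊓ W) := α - resO X inf_le_left x
    have he0 : i.app (U k ⊓ W) e' = 0 := by rw [map_sub, hα', hnat, sub_self]
    have hnil : IsNilpotent e' := by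
      rw [Scheme.isNilpotent_iff_basicOpen_eq_bot_of_isCompact haff.isCompact]
      refine AbsApprox.opens_eq_of_preimage_eq i ?_
      rw [Scheme.preimage_basicOpen, he0, Scheme.basicOpen_zero]
      rfl
    let ρ := X.presheaf.map (homOfLE inf_le_left : U k ⊓ W ⟶ U k).op
    letI : Algebra Γ(X, U k) Γ(X, U k ⊓ W) := ρ.hom.toAlgebra
    have : IsLocalization.Away x Γ(X, U k ⊓ W) :=
      (hU k).isLocalization_of_eq_basicOpen x (homOfLE inf_le_left) hxb.symm
    obtain ⟨N₀, hN₀⟩ := AbsApprox.exists_eq_pow_add x e' hnil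
    refine ⟨α, hα.symm, N₀ + 1, fun N hN => ?_⟩
    obtain ⟨b, hb⟩ := hN₀ N (by omega)
    have hb' : resO X (inf_le_left : U k ⊓ W ≤ U k) (x * b) = α ^ N := by
      refine hb.trans (congrArg (fun z => z ^ N) ?_)
      exact add_sub_cancel _ α
    refine ⟨x * b, le_antisymm ?_ ?_, hb'⟩
    · rw [Scheme.basicOpen_mul, hxb]
      exact inf_le_left
    · have h1 := X.basicOpen_res (x * b) (homOfLE inf_le_left : U k ⊓ W ⟶ U k).op
      rw [show X.presheaf.map (homOfLE inf_le_left : U k ⊓ W ⟶ U k).op (x * b) = α ^ N from hb',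
        Scheme.basicOpen_pow _ _ (by omega : 0 < N), hαb] at h1
      exact h1.le.trans inf_le_right
  choose α hα N₀ hN₀ using key
  let N := Finset.univ.sup N₀ + 1
  choose b hb hbr using fun k => hN₀ k N ((Finset.le_sup (Finset.mem_univ k)).trans (Nat.le_succ _))
  choose u hu using fun kl : ι' × ι' =>
    (he kl.1 (U kl.1 ⊓ U kl.2) inf_le_left).2 (res M (inf_le_right : U kl.1 ⊓ U kl.2 ≤ U kl.2) (e kl.2))
  let P : ∀ kl : ι' × ι', Γ(X, U kl.1 ⊓ U kl.2) := fun kl => resO X inf_le_left (b kl.1)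
  let Q : ∀ kl : ι' × ι', Γ(X, U kl.1 ⊓ U kl.2) := fun kl => u kl ^ N * resO X inf_le_right (b kl.2)
  have hkey2 : ∀ kl : ι' × ι', ∃ m : ℕ, P kl ^ m * (P kl - Q kl) = 0 ∧ Q kl ^ m * (P kl - Q kl) = 0 := by
    intro kl
    have hc : IsCompact (↑(U kl.1 ⊓ U kl.2) : Set X) :=
      QuasiSeparatedSpace.inter_isCompact _ _ (U kl.1).isOpen (hU kl.1).isCompact (U kl.2).isOpen
        (hU kl.2).isCompact
    have hzero : ∀ (T : X.Opens) (hT : T ≤ U kl.1 ⊓ U kl.2) (_ : T ≤ W),
        resO X hT (P kl - Q kl) = 0 := by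
      intro T hT hTW
      have hk : T ≤ U kl.1 ⊓ W := le_inf (hT.trans inf_le_left) hTW
      have hl : T ≤ U kl.2 ⊓ W := le_inf (hT.trans inf_le_right) hTW
      have h1 := congrArg (resO X hk) (hbr kl.1)
      have h2 := congrArg (resO X hl) (hbr kl.2)
      rw [resO_resO, map_pow] at h1 h2
      have h3 : resO X hk (α kl.1) = resO X hl (α kl.2) * resO X hT (u kl) := by
        refine coeff_unique (he kl.1) (hT.trans inf_le_left) ?_
        have e1 := congrArg (res M hk) (hα kl.1)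
        have e2 := congrArg (res M hl) (hα kl.2)
        have e3 := congrArg (res M hT) (hu kl)
        simp only [res_smul, res_res] at e1 e2 e3
        rw [mul_smul, e3, ← e2, e1]
      simp only [P, Q, map_sub, map_mul, map_pow, resO_resO]
      rw [h1, h2, h3, mul_pow, _root_.mul_comm, sub_self]
    obtain ⟨m₁, hm₁⟩ := exists_pow_mul_eq_zero_of_res_basicOpen_eq_zero_of_isCompact X hc (P kl - Q kl) (P kl)
      (hzero _ (X.basicOpen_le _) ((Groth.Agent.QC.basicOpen_resO_le _ _).trans ((hb kl.1).le.trans inf_le_right)))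
    obtain ⟨m₂, hm₂⟩ := exists_pow_mul_eq_zero_of_res_basicOpen_eq_zero_of_isCompact X hc (P kl - Q kl) (Q kl)
      (hzero _ (X.basicOpen_le _) (by
        simp only [Q, Scheme.basicOpen_mul]
        exact inf_le_right.trans ((Groth.Agent.QC.basicOpen_resO_le _ _).trans ((hb kl.2).le.trans inf_le_right))))
    refine ⟨m₁ + m₂, ?_, ?_⟩
    · rw [pow_add, mul_right_comm, hm₁, zero_mul]
    · rw [pow_add, mul_assoc, hm₂, mul_zero]
  choose m hm₁ hm₂ using hkey2
  let K := Finset.univ.sup m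
  let q := 2 * K + 1
  have hq : ∀ kl, P kl ^ q = Q kl ^ q := by
    intro kl
    obtain ⟨r, hr⟩ := Nat.exists_eq_add_of_le (show m kl ≤ K from Finset.le_sup (Finset.mem_univ kl))
    refine AbsApprox.pow_sub_pow_eq_zero _ _ K ?_ ?_
    · rw [hr, pow_add, mul_right_comm, hm₁ kl, zero_mul]
    · rw [hr, pow_add, mul_right_comm, hm₂ kl, zero_mul]
  obtain ⟨n, hn⟩ := Nat.exists_eq_add_of_le' (Nat.mul_pos (Nat.succ_pos _) (Nat.succ_pos _) :
    1 ≤ N * q)
  obtain ⟨c, hc, -⟩ := TopCat.Sheaf.existsUnique_gluing'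
    (Groth.Agent.QC.abSheaf (CohB1.tensorPow M (n + 1))) U ⊤
    (fun k => homOfLE le_top) (fun y _ => Opens.mem_iSup.mpr (hcov y))
    (fun k => b k ^ q • pw (e k) (n + 1)) (fun k l => by
      change res (CohB1.tensorPow M (n + 1)) (inf_le_left : U k ⊓ U l ≤ U k) _ =
        res (CohB1.tensorPow M (n + 1)) (inf_le_right : U k ⊓ U l ≤ U l) _
      rw [res_smul, res_smul, res_pw, res_pw, ← hu (k, l), pw_smul, smul_smul, map_pow, map_pow]
      congr 1
      refine (hq (k, l)).trans ?_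
      simp only [Q]
      rw [mul_pow, ← pow_mul, ← hn, _root_.mul_comm])
  refine ⟨n, homOf c, SetLike.ext fun y => ?_⟩
  obtain ⟨k, hk⟩ := hcov y
  have h1 : val (homOf c) (U k) = b k ^ q • pw (e k) (n + 1) := (val_homOf c (U k)).trans (hc k)
  have h2 := SetLike.ext_iff.1 (genLocus_inf (homOf c) (isGen_pw (he k) (n + 1)) h1) y
  rw [Scheme.basicOpen_pow _ _ (Nat.succ_pos _), hb k] at h2
  simpa only [Opens.mem_inf, hk, true_and] using h2

omit [CompactSpace X] [QuasiSeparatedSpace X] in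
/-- Ampleness descends along surjective closed immersions. -/
theorem isAmple_of_isAmple_pullback {L : X.Modules} (hL : PicF.IsInvertible L)
    (h : CohB1.IsAmple ((Scheme.Modules.pullback i).obj L)) : CohB1.IsAmple L := by
  haveI := h.2.1
  haveI := TMul.isSeparated_of_isAmple h
  haveI := AbsApprox.isSeparated_of_surjective i
  haveI : CompactSpace X := ⟨by rw [← i.surjective.range_eq]; exact isCompact_range i.continuous⟩
  refine ⟨hL, inferInstance, fun y => ?_⟩
  obtain ⟨z, rfl⟩ := i.surjective y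
  obtain ⟨n, t, hzt, ht⟩ := h.2.2 z
  obtain ⟨φ⟩ := TMul.nonempty_pullPowIso i L (n + 1)
  let t' := t ≫ φ.hom
  have ht' : CohB1.genLocus _ t' = CohB1.genLocus _ t := TMul.genLocus_comp t φ.hom
  rw [← ht'] at hzt ht
  let hi : IsHomeomorph i :=
    isHomeomorph_iff_isEmbedding_surjective.2 ⟨i.isClosedEmbedding.isEmbedding, i.surjective⟩
  let W : X.Opens := ⟨i '' (CohB1.genLocus _ t' : Set Z), hi.isOpenMap _ (CohB1.genLocus _ t').isOpen⟩
  have htW : i ⁻¹ᵁ W = CohB1.genLocus _ t' :=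
    SetLike.coe_injective (Set.preimage_image_eq _ i.isClosedEmbedding.injective)
  have : IsAffine (i ⁻¹ᵁ W).toScheme := by rw [htW]; exact ht
  have : IsClosedImmersion (i ∣_ W) := IsZariskiLocalAtTarget.restrict (P := @IsClosedImmersion) ‹_› W
  have : Surjective (i ∣_ W) := IsZariskiLocalAtTarget.restrict (P := @Surjective) ‹_› W
  have hW : IsAffineOpen W := AbsApprox.isAffine_of_universallyClosed (i ∣_ W)
  obtain ⟨N, s, hs⟩ := exists_genLocus_eq i (TMul.isInvertible_tensorPow hL (n + 1)) t' W hW htW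
  obtain ⟨ψ⟩ := TMul.nonempty_powMulIso L (n + 1) (N + 1)
  obtain ⟨d, hd⟩ := Nat.exists_eq_add_of_le' (Nat.mul_pos (Nat.succ_pos n) (Nat.succ_pos N) :
    1 ≤ (n + 1) * (N + 1))
  rw [hd] at ψ
  refine ⟨d, s ≫ ψ.hom, ?_⟩
  rw [TMul.genLocus_comp s ψ.hom, hs]
  exact ⟨⟨z, hzt, rfl⟩, hW⟩

end Groth.Agent.AmpleHomeo

end
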